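import Cfsg.Agent.Mrg.Omega.FOne.Glue.FsPs
import Cfsg.Agent.Mrg.Omega.ML.Ex.KnownDone
import Cfsg.Agent.Mrg.Omega.ML.KnownAll


/-!
# (F1'), the K-route: `EndPieces`, `PTv`, `FOneP` from the Lie(2) row only (helper854)
-/

set_option autoImplicit false

namespace Cfsg.Agent.Omega.FOne.Glue

open Cfsg Cfsg.Agent.Omega.FOne.NOv
open Cfsg.Agent.Omega.ML.Ex (EndPieces DeadXL)

universe u v w

/-- **`EndPieces` from the Lie(2) row** -/
theorem endPieces_of (h : DeadXL.{u, v, w} fun S _ => IsLieTypeChar 2 S) : EndPieces.{u, v, w} where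
  red := ML.Ex.psRed ML.KnownAll.mlk
  exit := ML.Ex.KnownDone.exitX
  lie2 := h
  u33 := ML.Ex.u33W
  a6 := ML.Ex.a6W

/-- **`PTv` from the Lie(2) row** -/
theorem ptv_of_lie2 (h : DeadXL.{u, u, u} fun S _ => IsLieTypeChar 2 S) : PTv.{u} :=
  ptv_of (ThmA.toFs ML.KnownAll.mlk) (deadR_of (endPieces_of h)) ML.KnownAll.mlk

/-- **(F1) for the leaf `TwoOne` from the Lie(2) row** -/
theorem fOneP_of_lie2 (h : DeadXL.{u, u, u} fun S _ => IsLieTypeChar 2 S) (K : Frame.Cls.{u}) :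
    NO3S.TwoOne.FOneP K :=
  fOneP_of (ThmA.toFs ML.KnownAll.mlk) (deadR_of (endPieces_of h)) ML.KnownAll.mlk K

end Cfsg.Agent.Omega.FOne.Glue
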